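import Groth.Agent.VBCurve.K708.PtTwist
import Groth.Agent.S1551
import Groth.Agent.S3746
import Groth.Agent.Krr.H473.QProj
import Groth.Agent.SGA6.K266.KRing
import Groth.Agent.AbVar.K526.Cut
import Groth.Agent.AbVar.K526.Reg
import Groth.Agent.CohqB.DevSupport
import Groth.Agent.Ega2.AmpleGlobGen
import Groth.Agent.AbSch.K451.DetPic
import Groth.Agent.IntSh.K878.KSup
import Groth.Agent.Sga67.K0Map

/-!
# The Grothendieck group of bundles on a smooth proper curve (helper38)

`(κ L - 1) * (κ M - 1) = 0` for invertible modules; every class is `(n - 1) + κ L`.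
-/

set_option autoImplicit false
universe u

open CategoryTheory CategoryTheory.Limits AlgebraicGeometry TopologicalSpace Opposite

namespace K38.CurveK

open Groth.Agent Groth.Agent.VarietyA.DegRank K707.Base K707.Deg K707.Slope K707.Semi K707.TensL K708.Coho K708.SSH0
open K708.PtTwist
open K266.KRing Groth.Agent.Sga67.KvbRing Groth.Agent.Sga67.TensorOps
open Groth.Agent.Fga.RegSec Groth.Agent.CohqB.DevSupport Groth.Agent.Sga67.LocBasis

theorem support_iso {X : Scheme.{u}} {M N : X.Modules} (e : M ≅ N) : CohB1.support M = CohB1.support N :=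
  Set.Subset.antisymm (support_subset_of_mono e.hom) (support_subset_of_mono e.inv)

/-- Multiplication by a section generating at the points of the support is an isomorphism. -/
theorem isIso_mulS {X : Scheme.{u}} {L T : X.Modules} (s : Coh.structureModule X ⟶ L)
    (h : CohB1.support T ⊆ CohB1.genLocus L s) (hL : PicF.IsInvertible L) : IsIso (mulS s T) := by
  refine isIso_of_stalks _ fun x => ?_
  by_cases hx : x ∈ CohB1.support T
  · exact isIso_stalk_mulS s T (h hx)
  · have h1 := (not_mem_support_iff_isZero T x).1 hx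
    have h2 : IsZero ((stalkF X x).obj (CohB1.tensorMod L T)) := by
      refine (not_mem_support_iff_isZero _ x).1 fun h3 => hx ?_
      have h4 : x ∈ CohB1.support (CohB1.tensorMod T L) := support_iso (Ega2.Tens.swap L T) ▸ h3
      exact Fga.TwistCoh.support_tensor_subset hL h4
    exact ⟨⟨0, h1.eq_of_src _ _, h2.eq_of_src _ _⟩⟩

theorem inv_tensor {X : Scheme.{u}} {L M : X.Modules} (hL : PicF.IsInvertible L) (hM : PicF.IsInvertible M) :
    PicF.IsInvertible (CohB1.tensorMod L M) :=
  rank_one_iff.mp (K451.DetPic.rank_tensor (rank_one_iff.mpr hL) (rank_one_iff.mpr hM))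

variable {k : Type u} [Field k] {X : Scheme.{u}} [X.Over (Spec (CommRingCat.of k))]
  [IsIntegral X] [IsProper (X ↘ (Spec (CommRingCat.of k)))]

theorem nonempty_tensor_torsion [Infinite k] (C : Crv k X) {L T : X.Modules} (hL : PicF.IsInvertible L)
    (hg : Curv2.IsGloballyGenerated L) (hT : Coh.IsCoh T)
    (h0 : Subsingleton (T.presheaf.stalk (genericPoint X))) : Nonempty (T ≅ CohB1.tensorMod L T) := by
  have := isNoetherian k (X := X)
  have hs := dim_support_le_zero C.dim.le T hT (K707.Deg.not_mem_support h0)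
  have hfin := Groth.Agent.VarietyA.GlobGen.finite_support T hT.2 hs
  obtain ⟨s, h⟩ := K526.Reg.exists_section k hL hg _ hfin
  have := isIso_mulS s h hL
  exact ⟨asIso (mulS s T)⟩

/-- The class in the Grothendieck group of coherent modules. -/
noncomputable def D (hcoh : ∀ M : X.Modules, FlatMod.IsFinLocFree M → Coh.IsCoh M) : KR X →+ SGA6.Kcoh X :=
  (SGA6.mapSub (𝟭 X.Modules) (KRR.vbP X) (fun M : X.Modules => Coh.IsCoh M) hcoh).comp
    (toKR X).symm.toAddMonoidHom

theorem D_κ (hcoh : ∀ M : X.Modules, FlatMod.IsFinLocFree M → Coh.IsCoh M) {E : X.Modules}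
    (hE : FlatMod.IsFinLocFree E) :
    D hcoh (κ E) = KZero.clSub (fun M : X.Modules => Coh.IsCoh M) E :=
  Groth.Agent.Sga67.K0Map.mapSub_clSub (𝟭 X.Modules) (KRR.vbP X) (fun M : X.Modules => Coh.IsCoh M) hcoh hE

theorem key [Infinite k] (C : Crv k X) (hcoh : ∀ M : X.Modules, FlatMod.IsFinLocFree M → Coh.IsCoh M)
    (hinj : Function.Injective (D hcoh)) {L M N : X.Modules} (hL : PicF.IsInvertible L)
    (hM : PicF.IsInvertible M) (hN : PicF.IsInvertible N)
    (hg : Curv2.IsGloballyGenerated L) (f : N ⟶ M) [Mono f] : (κ L - 1) * (κ M - κ N) = 0 := by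
  have := isNoetherian k (X := X)
  have hLv := vb_of_inv hL
  have hMv := vb_of_inv hM
  have hNv := vb_of_inv hN
  apply hinj
  have hS : (ShortComplex.mk f (cokernel.π f) (cokernel.condition f)).ShortExact := cokernel_shortExact f
  have hT : Coh.IsCoh (cokernel f) := coh_cokernel f (hcoh _ hNv) (hcoh _ hMv)
  have hrk := rk_add' k _ hS (hcoh _ hMv)
  have h0 : Subsingleton ((cokernel f).presheaf.stalk (genericPoint X)) := by
    refine subsingleton_of_rk_eq_zero hT ?_
    have e1 := rk_inv hM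
    have e2 := rk_inv hN
    change rk M = rk N + rk (cokernel f) at hrk
    omega
  obtain ⟨e⟩ := nonempty_tensor_torsion C hL hg hT h0
  have hLS := tensor_shortExact hLv hS
  have hLT : Coh.IsCoh (CohB1.tensorMod L (cokernel f)) := coh_iso e hT
  have hLN := isFinLocFree_tensorMod hLv hNv
  have hLM := isFinLocFree_tensorMod hLv hMv
  have c1 : KDet.clc X M = KDet.clc X N + KDet.clc X (cokernel f) :=
    K878.KSup.clc_shortExact hS (hcoh _ hNv) (hcoh _ hMv) hT
  have c2 : KDet.clc X (CohB1.tensorMod L M) =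
      KDet.clc X (CohB1.tensorMod L N) + KDet.clc X (CohB1.tensorMod L (cokernel f)) :=
    K878.KSup.clc_shortExact hLS (hcoh _ hLN) (hcoh _ hLM) hLT
  have c3 : KDet.clc X (cokernel f) = KDet.clc X (CohB1.tensorMod L (cokernel f)) := K878.KSup.clc_congr e
  have h1 : (κ L - 1) * (κ M - κ N) =
      κ (CohB1.tensorMod L M) - κ (CohB1.tensorMod L N) - (κ M - κ N) := by
    rw [κ_tensor hLv hMv, κ_tensor hLv hNv]
    ring
  rw [h1, map_zero, map_sub, map_sub, map_sub, D_κ hcoh hLM, D_κ hcoh hLN, D_κ hcoh hMv, D_κ hcoh hNv]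
  change KDet.clc X (CohB1.tensorMod L M) - KDet.clc X (CohB1.tensorMod L N) -
    (KDet.clc X M - KDet.clc X N) = 0
  rw [c1, c2, c3]
  abel

/-- Maps to invertible modules of large degree. -/
theorem exists_map (C : Crv k X) {M : X.Modules} (hM : PicF.IsInvertible M) :
    ∃ n : ℤ, ∀ A : X.Modules, PicF.IsInvertible A → n ≤ dg k A → ∃ f : M ⟶ A, Mono f := by
  refine ⟨1 + dg k M - Curv2.euler k X (Coh.structureModule X), fun A hA hn => ?_⟩
  obtain ⟨B, hB, ⟨e1⟩, -, hd⟩ := exists_inv C hM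
  have h1 : 0 < Curv2.euler k X (CohB1.tensorMod A B) := by
    rw [euler_eq_dg k, dg_tensor k C.dim (rank_one_iff.mpr hB) (coh_inv hA),
      rk_tensor (rank_one_iff.mpr hB) (coh_inv hA), rk_inv hA, hd]
    push_cast
    linarith
  obtain ⟨f, hf⟩ := exists_section C h1
  have hT := isEquivalence hB
  let g : (T B).obj M ⟶ (T B).obj A := e1.hom ≫ f
  have hg : g ≠ 0 := by
    intro h
    apply hf
    rw [← cancel_epi e1.hom, comp_zero]
    exact h
  obtain ⟨g', hg'⟩ := (T B).map_surjective g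
  refine ⟨g', mono_of_rank_one C (rank_one_iff.mpr hM) (vb_of_inv hA) g' ?_⟩
  rintro rfl
  apply hg
  rw [← hg']
  have := (T B).preservesZeroMorphisms_of_full
  simp

/-- Global generation in the first variable, the second one arbitrary. -/
theorem mul_of_gg [Infinite k] (C : Crv k X) (hcoh : ∀ M : X.Modules, FlatMod.IsFinLocFree M → Coh.IsCoh M)
    (hinj : Function.Injective (D hcoh)) {L M : X.Modules} (hL : PicF.IsInvertible L)
    (hM : PicF.IsInvertible M) (hg : Curv2.IsGloballyGenerated L) : (κ L - 1) * (κ M - 1) = 0 := by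
  have hO : PicF.IsInvertible (Coh.structureModule X) := rank_one_iff.mp rank_structureModule
  obtain ⟨n₁, h₁⟩ := exists_map C hM
  obtain ⟨n₂, h₂⟩ := exists_map C hO
  obtain ⟨A, hA, hd⟩ := exists_inv_ge C (max n₁ n₂)
  obtain ⟨f, hf⟩ := h₁ A hA (le_trans (le_max_left _ _) hd)
  obtain ⟨g, hg'⟩ := h₂ A hA (le_trans (le_max_right _ _) hd)
  have e1 := key C hcoh hinj hL hA hM hg f
  have e2 := key C hcoh hinj hL hA hO hg g
  rw [κ_one] at e2
  have e3 : (κ L - 1) * (κ M - 1) = (κ L - 1) * (κ A - 1) - (κ L - 1) * (κ A - κ M) := by ring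
  rw [e3, e1, e2, sub_zero]

/-- **The product of two classes of line bundles of rank zero vanishes.** -/
theorem mul_inv [Infinite k] (C : Crv k X) (hcoh : ∀ M : X.Modules, FlatMod.IsFinLocFree M → Coh.IsCoh M)
    (hinj : Function.Injective (D hcoh)) {A : X.Modules} (hA : CohB1.IsAmple A)
    {L M : X.Modules} (hL : PicF.IsInvertible L)
    (hM : PicF.IsInvertible M) : (κ L - 1) * (κ M - 1) = 0 := by
  have := isNoetherian k (X := X)
  obtain ⟨n₁, h₁⟩ := Ega2.AmpleGlobGen.exists_globGen hA (coh_inv hL)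
  obtain ⟨n₂, h₂⟩ := Ega2.AmpleGlobGen.exists_globGen hA
    (coh_inv (rank_one_iff.mp (rank_structureModule (X := X))))
  have hAi : PicF.IsInvertible A := hA.1
  have hAn : PicF.IsInvertible (CohB1.tensorPow A (max n₁ n₂)) := (inv_pow C hAi _).1
  have g1 := h₁ (max n₁ n₂) (le_max_left _ _)
  have g2 := h₂ (max n₁ n₂) (le_max_right _ _)
  have hLA : PicF.IsInvertible (CohB1.tensorMod L (CohB1.tensorPow A (max n₁ n₂))) := inv_tensor hL hAn
  have e1 := mul_of_gg C hcoh hinj hLA hM g1
  have e2 := mul_of_gg C hcoh hinj (L := CohB1.tensorMod (Coh.structureModule X) (CohB1.tensorPow A (max n₁ n₂)))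
    (inv_tensor (rank_one_iff.mp (rank_structureModule (X := X))) hAn) hM g2
  rw [κ_tensor (vb_of_inv hL) (vb_of_inv hAn)] at e1
  rw [κ_tensor isFinLocFree_structureModule (vb_of_inv hAn), κ_one, one_mul] at e2
  have e3 : (κ L - 1) * (κ M - 1) = (κ L * κ (CohB1.tensorPow A (max n₁ n₂)) - 1) * (κ M - 1) -
      κ L * ((κ (CohB1.tensorPow A (max n₁ n₂)) - 1) * (κ M - 1)) := by ring
  rw [e3, e1, e2, mul_zero, sub_zero]

/-- **Existence of the decomposition.** -/
theorem exists_eq [Infinite k] (C : Crv k X) (hcoh : ∀ M : X.Modules, FlatMod.IsFinLocFree M → Coh.IsCoh M)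
    (hinj : Function.Injective (D hcoh)) {A : X.Modules} (hA : CohB1.IsAmple A) (x : KR X) :
    ∃ (n : ℤ) (L : X.Modules), PicF.IsInvertible L ∧ x = (n - 1) • (1 : KR X) + κ L := by
  have hO : PicF.IsInvertible (Coh.structureModule X) := rank_one_iff.mp rank_structureModule
  have hsub : ∀ x y : KR X, (∃ (n : ℤ) (L : X.Modules), PicF.IsInvertible L ∧ x = (n - 1) • (1 : KR X) + κ L) →
      (∃ (n : ℤ) (L : X.Modules), PicF.IsInvertible L ∧ y = (n - 1) • (1 : KR X) + κ L) →
      ∃ (n : ℤ) (L : X.Modules), PicF.IsInvertible L ∧ x - y = (n - 1) • (1 : KR X) + κ L := by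
    rintro _ _ ⟨n, L, hL, rfl⟩ ⟨m, L', hL', rfl⟩
    obtain ⟨B, hB, ⟨e1⟩, -, -⟩ := exists_inv C hL'
    have hLB : PicF.IsInvertible (CohB1.tensorMod L B) := inv_tensor hL hB
    refine ⟨n - m, CohB1.tensorMod L B, hLB, ?_⟩
    have h1 := mul_inv C hcoh hinj hA hL' hB
    have h2 : κ L' * κ B = 1 := by
      rw [← κ_tensor (vb_of_inv hL') (vb_of_inv hB), ← κ_one]
      exact κ_iso e1 (isFinLocFree_tensorMod (vb_of_inv hL') (vb_of_inv hB))
    have h3 := mul_inv C hcoh hinj hA hL hB
    rw [κ_tensor (vb_of_inv hL) (vb_of_inv hB)]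
    have h4 : κ L' = 2 - κ B := by
      have : (κ L' - 1) * (κ B - 1) = κ L' * κ B - κ L' - κ B + 1 := by ring
      rw [this, h2] at h1
      linear_combination -h1
    have h5 : κ L * κ B = κ L + κ B - 1 := by linear_combination h3
    rw [h5, h4]
    simp only [sub_smul, one_smul]
    ring
  refine induction (C := fun x => ∃ (n : ℤ) (L : X.Modules), PicF.IsInvertible L ∧
    x = (n - 1) • (1 : KR X) + κ L) (fun E hE => ?_) hsub x
  induction h : rk E generalizing E with
  | zero =>
    have hz : IsZero E := isZero_of_rk_eq_zero C hE h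
    exact ⟨0, _, hO, by rw [κ_isZero hz, κ_one]; simp⟩
  | succ r ih =>
    obtain ⟨S, hS, rfl, h1, h3, hr, -⟩ := exists_line_sub C hE (by omega)
    rw [κ_ses hS (vb_of_inv h1) hE h3]
    have hx := ih S.X₃ h3 (by omega)
    have hy : ∃ (n : ℤ) (L : X.Modules), PicF.IsInvertible L ∧ κ S.X₁ = (n - 1) • (1 : KR X) + κ L :=
      ⟨1, S.X₁, h1, by simp⟩
    have hz : ∃ (n : ℤ) (L : X.Modules), PicF.IsInvertible L ∧ (0 : KR X) = (n - 1) • (1 : KR X) + κ L :=
      ⟨0, _, hO, by rw [κ_one]; simp⟩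
    have := hsub _ _ hy (hsub _ _ hz hx)
    simpa using this

variable (k) in
/-- The rank. -/
noncomputable def rkH (hcoh : ∀ M : X.Modules, FlatMod.IsFinLocFree M → Coh.IsCoh M) : KR X →+ ℤ :=
  liftR (fun E => (rk E : ℤ)) fun S _ h₂ _ hS => by
    have := rk_add' k S hS (hcoh _ h₂)
    exact_mod_cast this

open Classical in
/-- The determinant. -/
noncomputable def detH : KR X →+ Additive (Grpsch.PicGrp.Pic X) :=
  liftR (fun E => if h : FlatMod.IsFinLocFreeOfRank (rk E) E then
    Additive.ofMul (K451.DetPic.det (rk E) E h) else 0) fun S h₁ h₂ h₃ hS => by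
    have r₁ := isFinLocFreeOfRank_rk h₁
    have r₂ := isFinLocFreeOfRank_rk h₂
    have r₃ := isFinLocFreeOfRank_rk h₃
    simp only [dif_pos r₁, dif_pos r₂, dif_pos r₃]
    rw [← ofMul_mul]
    congr 1
    rw [← K451.DetPic.det_extension hS r₁ r₃]
    have h := K451.DetPic.rank_extension hS r₁ r₃
    exact K451.DetPic.det_congr r₂ h (rk_of_rank h) (Iso.refl _)

theorem detH_κ {L : X.Modules} (hL : PicF.IsInvertible L) :
    detH (κ L) = Additive.ofMul (Grpsch.PicGrp.mk L hL) := by
  have h1 := rank_one_iff.mpr hL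
  have h2 := isFinLocFreeOfRank_rk (vb_of_inv hL)
  refine (liftR_κ _ _ (vb_of_inv hL)).trans ?_
  rw [dif_pos h2, ← K451.DetPic.det_one h1 hL]
  congr 1
  exact K451.DetPic.det_congr h2 h1 (rk_of_rank h1) (Iso.refl _)

variable (k) in
include k in
/-- **Uniqueness of the decomposition.** -/
theorem unique (hcoh : ∀ M : X.Modules, FlatMod.IsFinLocFree M → Coh.IsCoh M) {n m : ℤ} {L L' : X.Modules}
    (hL : PicF.IsInvertible L) (hL' : PicF.IsInvertible L')
    (h : (n - 1) • (1 : KR X) + κ L = (m - 1) • (1 : KR X) + κ L') : n = m ∧ Nonempty (L ≅ L') := by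
  have h1 := congrArg (rkH k hcoh) h
  have hO : rkH k hcoh (1 : KR X) = 1 := by
    rw [← κ_one]
    refine (liftR_κ _ _ isFinLocFree_structureModule).trans ?_
    rw [Groth.Agent.VarietyA.DegRank.rk_structureModule]
    rfl
  have hr : ∀ {M : X.Modules}, PicF.IsInvertible M → rkH k hcoh (κ M) = 1 := fun hM => by
    refine (liftR_κ _ _ (vb_of_inv hM)).trans ?_
    rw [rk_inv hM]
    rfl
  rw [map_add, map_add, map_zsmul, map_zsmul, hO, hr hL, hr hL', smul_eq_mul, smul_eq_mul] at h1
  have hnm : n = m := by linarith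
  refine ⟨hnm, ?_⟩
  subst hnm
  have h2 := congrArg detH (add_left_cancel h)
  rw [detH_κ hL, detH_κ hL'] at h2
  exact (Grpsch.PicGrp.mk_eq_iff _ _).mp (Additive.ofMul.injective h2)

end K38.CurveK
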