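import Groth.Agent.Sga67.SerreVB2
import Groth.Agent.Sga67.PushFlat
import Groth.Agent.Sga67.PushLocal
import Groth.Agent.Models2.FPCoh
import Groth.Agent.Desc.FPSections
import Groth.Agent.PerfA.QCohSerre
import Groth.Agent.PerfC.FPSections
import Groth.Agent.EGA43.K120.KerFlat
import Groth.Agent.CohqB.RelVan
import Groth.Agent.Ega3A.PChart
import Groth.Agent.Ega3B.FlatRestrict
import Groth.Agent.Ega3B.FlatTensInv
import Groth.Agent.Desc.FinLocFreeSections
import Groth.Agent.Sga5.ProjSmooth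
import Groth.Prelude.Def_KRR
import Groth.Agent.PerfC.RelFlat
import Groth.Agent.Krr.H488.Serre
import Groth.Agent.S4654
import Groth.Agent.S9353

/-!
# Serre's theorem for finitely presented modules flat over the base, on `P^r_S` (helper38)

`serre`: for `F` finitely presented on `P^r_A`, flat over `A` (any ring), there is `n₀` with `H^q(F(n)) = 0` for
`q ≥ 1` and `H^0(F(n))` finitely presented, `n ≥ n₀`.
-/

set_option autoImplicit false

universe u

open CategoryTheory CategoryTheory.Limits AlgebraicGeometry Opposite TopologicalSpace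

namespace K38.SerreFlat

open Groth.Agent Groth.Agent.Sga67.SerreVB Groth.Agent.Sga67.SerreVB2 Groth.Agent.FormalB.HHLin
  Groth.Agent.CohqA.UnifVan Groth.Agent.CohqB.FiniteType2

attribute [local instance] Abelian.hasFiniteBiproducts

section General

variable {X S : Scheme.{u}} [IsAffine S]

/-- The kernel of an epimorphism onto a finitely presented module flat over the base is finitely presented. -/
theorem isFP_kernel (f : X ⟶ S) [LocallyOfFinitePresentation f] {G F : X.Modules} (hG : CohB1.IsFP G)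
    (hF : CohB1.IsFP F) (hfl : FlatMod.IsFlatOver f F) (π : G ⟶ F) [Epi π] : CohB1.IsFP (kernel π) := by
  have hqG : Coh.IsQCoh G := Models2.FPCoh.isQCoh_of_isFP hG
  have hqF : Coh.IsQCoh F := Models2.FPCoh.isQCoh_of_isFP hF
  have hqK : Coh.IsQCoh (kernel π) := PerfA.QCohSerre.isQCoh_kernel π hqG hqF
  have : G.IsQuasicoherent := hqG
  have : F.IsQuasicoherent := hqF
  rw [Desc.FPSections.isFP_iff_of_cover hqK (fun V => True) fun x => by
    obtain ⟨_, ⟨V, hV, rfl⟩, hxV, -⟩ := X.isBasis_affineOpens.exists_subset_of_mem_open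
      (show x ∈ ((⊤ : X.Opens) : Set X) from trivial) (⊤ : X.Opens).isOpen
    exact ⟨V, trivial, hV, hxV⟩]
  intro V _ hV
  have hle : V ≤ f ⁻¹ᵁ ⊤ := le_top
  have h1 := Desc.FPSections.finitePresentation_sections hV hqG hG
  have h2 := Desc.FPSections.finitePresentation_sections hV hqF hF
  let _ : Algebra Γ(S, ⊤) Γ(X, V) := (f.appLE ⊤ V hle).hom.toAlgebra
  have h3 : Algebra.FinitePresentation Γ(S, ⊤) Γ(X, V) :=
    f.finitePresentation_appLE (isAffineOpen_top S) hV hle
  let _ : Module Γ(S, ⊤) Γ(F, V) := Module.compHom Γ(F, V) (f.appLE ⊤ V hle).hom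
  have h4 : IsScalarTower Γ(S, ⊤) Γ(X, V) Γ(F, V) := ⟨fun a b m => mul_smul _ _ _⟩
  have h5 : Module.Flat Γ(S, ⊤) Γ(F, V) := (S9353.result f F hqF).mp hfl V ⊤ hle hV (isAffineOpen_top S)
  have hs : Function.Surjective (appLinear π V) := PerfA.QCohEpi.app_surjective_of_epi π hV
  have h6 := K120.KerFlat.ker_finitePresentation (R := Γ(S, ⊤)) (appLinear π V) hs
  have hex := sections_exact (ShortComplex.mk (kernel.ι π) π (kernel.condition π)) (ShortComplex.exact_kernel π) V
  have hinj := appLinear_injective (kernel.ι π) V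
  let e : Γ(kernel π, V) ≃ₗ[Γ(X, V)] LinearMap.ker (appLinear π V) :=
    LinearEquiv.ofBijective ((appLinear (kernel.ι π) V).codRestrict _ fun x => (hex _).mpr ⟨x, rfl⟩)
      ⟨fun a b h => hinj (congrArg Subtype.val h), fun ⟨y, hy⟩ => by
        obtain ⟨x, hx⟩ := (hex y).mp hy
        exact ⟨x, Subtype.ext hx⟩⟩
  exact Module.FinitePresentation.of_equiv e.symm

end General

variable (r : ℕ) (A : Type u) [CommRing A]

/-- Finitely presented and flat over the base. -/
def PF (F : (CohB1.ProjSpace r A).Modules) : Prop :=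
  CohB1.IsFP F ∧ FlatMod.IsFlatOver (CohB1.ProjSpace.toSpec r A) F

variable {r A} in
theorem PF.isCoh {F : (CohB1.ProjSpace r A).Modules} (hF : PF r A F) : Coh.IsCoh F :=
  Models2.FPCoh.isCoh_of_isFP hF.1

theorem lfp_toSpec : LocallyOfFinitePresentation (CohB1.ProjSpace.toSpec r A) := by
  have h1 := Sga5.ProjSmooth.smooth_toSpec (n := r) (R := A)
  have h2 : Smooth (CohB1.ProjSpace.toSpec r A) := SmoothOfRelativeDimension.smooth r _
  infer_instance

/-- The basic short exact sequence `0 → K → O(-a)^N → F → 0`. -/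
theorem exists_ses {F : (CohB1.ProjSpace r A).Modules} (hF : PF r A F) :
    ∃ (a : ℕ) (N : ℕ) (p : sumO r A N (-(a : ℤ)) ⟶ F), Epi p ∧ PF r A (kernel p) := by
  obtain ⟨a, h⟩ := exists_epi_sum r A hF.isCoh
  obtain ⟨N, p, hp⟩ := h a le_rfl
  have hlf := isFinLocFree_sumO r A N (-(a : ℤ))
  have hfpG : CohB1.IsFP (sumO r A N (-(a : ℤ))) := Desc.FinLocFreeSections.isFP_of_isFinLocFree hlf
  have := lfp_toSpec r A
  have hK : CohB1.IsFP (kernel p) := isFP_kernel (CohB1.ProjSpace.toSpec r A) hfpG hF.1 hF.2 p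
  refine ⟨a, N, p, hp, hK, ?_⟩
  have hflG : FlatMod.IsFlatOver (CohB1.ProjSpace.toSpec r A) (sumO r A N (-(a : ℤ))) :=
    PerfC.RelFlat.isFlatOver_of_isFlat _ (Dcoh.Spread.isFlat_of_isFinLocFree hlf)
  exact (S4654.result (CohB1.ProjSpace.toSpec r A) (ShortComplex.mk (kernel.ι p) p (kernel.condition p))
    { exact := ShortComplex.exact_kernel p } (Models2.FPCoh.isQCoh_of_isFP hK)
    (Models2.FPCoh.isQCoh_of_isFP hfpG) hF.isCoh.1 hF.2).mp hflG

/-- Vanishing of higher cohomology, descending induction. -/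
theorem exists_vanishing_aux (k : ℕ) : ∀ (q : ℕ), 1 ≤ q → r + 1 ≤ q + k →
    ∀ F : (CohB1.ProjSpace r A).Modules, PF r A F → ∃ n₀ : ℕ, ∀ n : ℤ, (n₀ : ℤ) ≤ n →
      ∀ i, q ≤ i → Subsingleton (Coh.HH (CohB1.ProjSpace r A) ((tw r A n).obj F) i) := by
  induction k with
  | zero =>
    intro q _ hqk F hF
    refine ⟨0, fun n _ i hi => ?_⟩
    have : Coh.IsQCoh ((tw r A n).obj F) := (isCoh_tw r A hF.isCoh n).1
    exact S0022.result r A _ i (by omega)
  | succ k ih =>
    intro q hq hqk F hF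
    obtain ⟨a, N, p, hp, hK⟩ := exists_ses r A hF
    obtain ⟨n₁, h₁⟩ := ih (q + 1) (by omega) (by omega) _ hK
    obtain ⟨n₂, h₂⟩ := ih (q + 1) (by omega) (by omega) F hF
    refine ⟨max a (max n₁ n₂), fun n hn i hi => ?_⟩
    have ha : (a : ℤ) ≤ n := le_trans (by exact_mod_cast le_max_left _ _) hn
    have hn₁ : (n₁ : ℤ) ≤ n :=
      le_trans (by exact_mod_cast (le_max_left _ _).trans (le_max_right _ _)) hn
    have hn₂ : (n₂ : ℤ) ≤ n :=
      le_trans (by exact_mod_cast (le_max_right _ _).trans (le_max_right _ _)) hn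
    rcases Nat.eq_or_lt_of_le hi with rfl | hlt
    · obtain ⟨e⟩ := nonempty_tw_sumO r A N (-(a : ℤ)) n
      refine subsingleton_right (shortExact_twist r A p n) q ?_ (h₁ n hn₁ (q + 1) le_rfl)
      exact subsingleton_of_iso e.symm q (subsingleton_sumO r A N _ (by omega) q hq)
    · exact h₂ n hn₂ i hlt

/-- Serre vanishing. -/
theorem exists_vanishing {F : (CohB1.ProjSpace r A).Modules} (hF : PF r A F) :
    ∃ n₀ : ℕ, ∀ n : ℤ, (n₀ : ℤ) ≤ n →
      ∀ q, 1 ≤ q → Subsingleton (Coh.HH (CohB1.ProjSpace r A) ((tw r A n).obj F) q) :=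
  exists_vanishing_aux r A r 1 le_rfl (by omega) F hF

/-- `H^0(F(n))` is finite for large `n`. -/
theorem exists_finite {F : (CohB1.ProjSpace r A).Modules} (hF : PF r A F) :
    ∃ n₀ : ℕ, ∀ n : ℤ, (n₀ : ℤ) ≤ n →
      Module.Finite A (Coh.HH (CohB1.ProjSpace r A) ((tw r A n).obj F) 0) := by
  obtain ⟨a, N, p, hp, hK⟩ := exists_ses r A hF
  obtain ⟨n₁, h₁⟩ := exists_vanishing r A hK
  refine ⟨max a n₁, fun n hn => ?_⟩
  have ha : (a : ℤ) ≤ n := le_trans (by exact_mod_cast le_max_left _ _) hn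
  have hn₁ : (n₁ : ℤ) ≤ n := le_trans (by exact_mod_cast (le_max_right _ _)) hn
  obtain ⟨e⟩ := nonempty_tw_sumO r A N (-(a : ℤ)) n
  have := finitePresentation_sumO r A N (-(a : ℤ) + n) (by omega)
  exact finite_H0 (A := A) (shortExact_twist r A p n) (h₁ n hn₁ 1 le_rfl)
    (Module.Finite.equiv (hiso A e.symm 0))

/-- `H^0(F(n))` is finitely presented for large `n`. -/
theorem exists_finitePresentation {F : (CohB1.ProjSpace r A).Modules}
    (hF : PF r A F) :
    ∃ n₀ : ℕ, ∀ n : ℤ, (n₀ : ℤ) ≤ n →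
      Module.FinitePresentation A (Coh.HH (CohB1.ProjSpace r A) ((tw r A n).obj F) 0) := by
  obtain ⟨a, N, p, hp, hK⟩ := exists_ses r A hF
  obtain ⟨n₁, h₁⟩ := exists_vanishing r A hK
  obtain ⟨n₂, h₂⟩ := exists_finite r A hK
  refine ⟨max a (max n₁ n₂), fun n hn => ?_⟩
  have ha : (a : ℤ) ≤ n := le_trans (by exact_mod_cast le_max_left _ _) hn
  have hn₁ : (n₁ : ℤ) ≤ n :=
    le_trans (by exact_mod_cast (le_max_left _ _).trans (le_max_right _ _)) hn
  have hn₂ : (n₂ : ℤ) ≤ n :=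
    le_trans (by exact_mod_cast (le_max_right _ _).trans (le_max_right _ _)) hn
  obtain ⟨e⟩ := nonempty_tw_sumO r A N (-(a : ℤ)) n
  have := finitePresentation_sumO r A N (-(a : ℤ) + n) (by omega)
  exact finitePresentation_H0 (A := A) (shortExact_twist r A p n) (h₁ n hn₁ 1 le_rfl) (h₂ n hn₂)
    (Module.FinitePresentation.of_equiv (hiso A e.symm 0))

/-- A twist of a module flat over the base is flat over the base. -/
theorem isFlatOver_tw {F : (CohB1.ProjSpace r A).Modules} (hF : PF r A F) (n : ℤ) :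
    FlatMod.IsFlatOver (CohB1.ProjSpace.toSpec r A) ((tw r A n).obj F) :=
  Ega3B.FlatTensInv.isFlatOver_tensor _ (isInvertible_twist r A n) hF.2

/-- `π_* F(n)` is finite locally free for large `n`, and the higher cohomology vanishes. -/
theorem exists_push {F : (CohB1.ProjSpace r A).Modules} (hF : PF r A F) :
    ∃ n₀ : ℕ, ∀ n : ℤ, (n₀ : ℤ) ≤ n →
      (∀ q, 1 ≤ q → Subsingleton (Coh.HH (CohB1.ProjSpace r A) ((tw r A n).obj F) q)) ∧
      FlatMod.IsFinLocFree ((Scheme.Modules.pushforward (CohB1.ProjSpace.toSpec r A)).obj ((tw r A n).obj F)) := by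
  obtain ⟨n₁, h₁⟩ := exists_vanishing r A hF
  obtain ⟨n₂, h₂⟩ := exists_finitePresentation r A hF
  refine ⟨max n₁ n₂, fun n hn => ?_⟩
  have hn₁ : (n₁ : ℤ) ≤ n := le_trans (by exact_mod_cast le_max_left _ _) hn
  have hn₂ : (n₂ : ℤ) ≤ n := le_trans (by exact_mod_cast (le_max_right _ _)) hn
  have := Ega3B.ProjProper.isProper_toSpec r A
  exact ⟨h₁ n hn₁, Sga67.PushFlat.isFinLocFree_pushforward _ _ (isCoh_tw r A hF.isCoh n).1
    (isFlatOver_tw r A hF n) (h₁ n hn₁) (Krr.H488.Serre.finitePresentation_push r A _ (h₂ n hn₂))⟩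

section Base

open Groth.Agent.Ega3A.PChart

variable {S : Scheme.{u}}

/-- Restriction to the chart over an affine open. -/
theorem pf_restrict {F : (KRR.PY r S).Modules} (hF : CohB1.IsFP F) (hfl : FlatMod.IsFlatOver (KRR.pr r S) F)
    {V : S.Opens} (hV : IsAffineOpen V) : PF r Γ(S, V) (F.restrict (chart r hV.fromSpec)) :=
  ⟨PerfC.FPSections.isFP_restrict _ hF,
    Ega3B.FlatRestrict.isFlatOver_restrict (KRR.pr r S) (CohB1.ProjSpace.toSpec r Γ(S, V)) (chart r hV.fromSpec)
      hV.fromSpec (chart_toBase r hV.fromSpec) F hfl⟩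

theorem nonempty_tw_restrict (F : (KRR.PY r S).Modules) {V : S.Opens} (hV : IsAffineOpen V) (n : ℤ) :
    Nonempty ((KRR.twF r S n F).restrict (chart r hV.fromSpec) ≅
      (tw r Γ(S, V) n).obj (F.restrict (chart r hV.fromSpec))) := by
  obtain ⟨e⟩ := nonempty_tw_iso_tensorBi r Γ(S, V) n (F.restrict (chart r hV.fromSpec))
  exact ⟨restrictTensorIso r hV.fromSpec n F ≪≫ e.symm⟩

end Base

end K38.SerreFlat
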