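import Groth.Agent.SGA6.K266.FibreGen
import Groth.Agent.SGA6.K266.PBRing
import Groth.Agent.IntSh.K878.PBPush
import Groth.Agent.Krr.H484.PBCharts
import Groth.Agent.Krr.H471.PBTwist
import Groth.Agent.Krr.H471.ChartTwist
import Groth.Agent.Krr.H473.QProj
import Groth.Agent.Krr.H488.Serre
import Groth.Agent.Sga5.ProjReg
import Groth.Agent.Sga67.PushTwist
import Groth.Agent.S3746
import Groth.Agent.Sga67.K0Map
import Groth.Agent.AbSch.K451.DetPic

/-!
# `K₀` of coherent modules of a projective bundle (helper38)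

* `injective_sum`, abstract;
* `gen_projSpace`: `K₀(Coh P^r_k)` is generated by `O, O(1), …, O(r)`, `k` a field;
* `gen_fibre`: the same on the fibres of a projective bundle.
-/

set_option autoImplicit false
universe u

open CategoryTheory CategoryTheory.Limits AlgebraicGeometry Opposite TopologicalSpace

namespace K38.PBCoh

/-- Independence from a push-forward. -/
theorem eq_zero_of_sum {A M : Type*} [AddCommGroup A] [AddCommGroup M] (p : A →+ M) (g : M →+ A)
    (T U : AddMonoid.End M) (hUT : U * T = 1) (r : ℕ) (h0 : ∀ x, g (p x) = x)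
    (hneg : ∀ k : ℕ, 1 ≤ k → k ≤ r → ∀ x : A, g ((U ^ k) (p x)) = 0) (a : Fin (r + 1) → A)
    (ha : ∑ i : Fin (r + 1), (T ^ (i : ℕ)) (p (a i)) = 0) : a = 0 := by
  have hUTn : ∀ n : ℕ, U ^ n * T ^ n = 1 := by
    intro n
    induction n with
    | zero => simp
    | succ n ih => rw [pow_succ, pow_succ', mul_assoc, ← mul_assoc U T, hUT, one_mul, ih]
  have hlt : ∀ n m : ℕ, n ≤ m → U ^ m * T ^ n = U ^ (m - n) := by
    intro n m h
    have : m = (m - n) + n := by omega
    conv_lhs => rw [this, pow_add, mul_assoc, hUTn, mul_one]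
  have key : ∀ d : ℕ, ∀ i : Fin (r + 1), r ≤ (i : ℕ) + d → a i = 0 := by
    intro d
    induction d with
    | zero =>
      intro i hi
      have hir : (i : ℕ) = r := by have := i.2; omega
      have h1 : g ((U ^ r) (∑ j : Fin (r + 1), (T ^ (j : ℕ)) (p (a j)))) = 0 := by
        rw [ha, map_zero, map_zero]
      rw [map_sum, map_sum, Finset.sum_eq_single i] at h1
      · change g ((U ^ r * T ^ (i : ℕ)) (p (a i))) = 0 at h1
        rw [hlt _ _ hir.le, hir, Nat.sub_self, pow_zero] at h1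
        exact (h0 _).symm.trans h1
      · intro j _ hj
        have hjr : (j : ℕ) < r := by
          have h3 := j.2
          have h4 : (j : ℕ) ≠ (i : ℕ) := fun h => hj (Fin.ext h)
          omega
        change g ((U ^ r * T ^ (j : ℕ)) (p (a j))) = 0
        rw [hlt _ _ hjr.le]
        exact hneg _ (by omega) (by omega) _
      · exact fun h => absurd (Finset.mem_univ i) h
    | succ d ih =>
      intro i hi
      by_cases hi' : r ≤ (i : ℕ) + d
      · exact ih i hi'
      have h1 : g ((U ^ (i : ℕ)) (∑ j : Fin (r + 1), (T ^ (j : ℕ)) (p (a j)))) = 0 := by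
        rw [ha, map_zero, map_zero]
      rw [map_sum, map_sum, Finset.sum_eq_single i] at h1
      · change g ((U ^ (i : ℕ) * T ^ (i : ℕ)) (p (a i))) = 0 at h1
        rw [hUTn] at h1
        exact (h0 _).symm.trans h1
      · intro j _ hj
        rcases lt_or_ge (j : ℕ) (i : ℕ) with hji | hji
        · change g ((U ^ (i : ℕ) * T ^ (j : ℕ)) (p (a j))) = 0
          rw [hlt _ _ hji.le]
          have := i.2
          exact hneg _ (by omega) (by omega) _
        · have h4 : (j : ℕ) ≠ (i : ℕ) := fun h => hj (Fin.ext h)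
          rw [ih j (by omega), map_zero, map_zero, map_zero, map_zero]
      · exact fun h => absurd (Finset.mem_univ i) h
  funext i
  exact key r i (by omega)

open Groth.Agent Groth.Agent.Sga67 Groth.Agent.Krr.H488.PicZ Groth.Agent.Krr.H488.Atlas
open K266.KRing K266.PBRing K266.FibreGen Groth.Agent.Sga67.KvbRing

section field

variable (r : ℕ) (k : Type u) [Field k]

/-- The trivial atlas of `P^r_A`. -/
noncomputable def atlas (A : Type u) [CommRing A] :
    Atlas r (CohB1.ProjSpace.toSpec r A) (Twist.twistProjSpace r A 1) (fun _ : Unit => A)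
      (fun _ => 𝟙 (Spec (CommRingCat.of A))) where
  j _ := 𝟙 _
  isPullback _ := IsPullback.of_horiz_isIso ⟨by simp⟩
  surj s := ⟨(), s, by simp⟩
  iso1 _ := ⟨(Scheme.Modules.pullbackId _).app _⟩

/-- Every class on the spectrum of a field is an integer. -/
theorem exists_int (x : KR (Spec (CommRingCat.of k))) : ∃ n : ℤ, x = n • (1 : KR (Spec (CommRingCat.of k))) := by
  refine K266.KRing.induction (C := fun x => ∃ n : ℤ, x = n • (1 : KR (Spec (CommRingCat.of k)))) (fun E hE => ?_)
    (fun x y ⟨n, hn⟩ ⟨m, hm⟩ => ⟨n - m, by rw [hn, hm, sub_smul]⟩) x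
  obtain ⟨U, n, hx, ⟨e⟩⟩ := hE (⊥ : PrimeSpectrum k)
  have hs : Subsingleton ↥(Spec (CommRingCat.of k)) := inferInstanceAs (Subsingleton (PrimeSpectrum k))
  have hU : U = ⊤ := by
    ext z
    simp [Subsingleton.elim z (⊥ : PrimeSpectrum k), hx]
  subst hU
  obtain ⟨b, hb⟩ := Sga67.LocBasis.nonempty_restrict_iso_iff.1 ⟨e⟩
  obtain ⟨e'⟩ := Sga67.LocBasis.nonempty_iso_free hb
  refine ⟨n, ?_⟩
  rw [κ_iso e' hE]
  have h1 : κ (FlatMod.freeMod (Spec (CommRingCat.of k)) n) =
      toKR _ (n • c (Coh.structureModule (Spec (CommRingCat.of k)))) :=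
    congrArg (toKR _) (Sga67.PushTwist.c_freeMod _ n)
  rw [h1, map_nsmul, natCast_zsmul]
  rfl

/-- The class in the Grothendieck group of coherent modules. -/
noncomputable def D {X : Scheme.{u}} (hcoh : ∀ M : X.Modules, FlatMod.IsFinLocFree M → Coh.IsCoh M) :
    KR X →+ SGA6.Kcoh X :=
  (SGA6.mapSub (𝟭 X.Modules) (KRR.vbP X) (fun M : X.Modules => Coh.IsCoh M) hcoh).comp
    (toKR X).symm.toAddMonoidHom

theorem D_κ {X : Scheme.{u}} (hcoh : ∀ M : X.Modules, FlatMod.IsFinLocFree M → Coh.IsCoh M) {E : X.Modules}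
    (hE : FlatMod.IsFinLocFree E) : D hcoh (κ E) = kc X E :=
  Groth.Agent.Sga67.K0Map.mapSub_clSub (𝟭 X.Modules) (KRR.vbP X) (fun M : X.Modules => Coh.IsCoh M) hcoh hE

open Groth.Agent.Krr.H471.ChartTwist

theorem κ_W {X : Scheme.{u}} {N : X.Modules} (hN : FlatMod.IsFinLocFree N) (i : ℕ) : κ (W N i) = κ N ^ i := by
  induction i with
  | zero => rw [pow_zero]; exact κ_one
  | succ i ih =>
    rw [pow_succ', ← ih]
    exact κ_tensor hN (isFinLocFree_W hN i)

theorem isFinLocFree_of_isInvertible {X : Scheme.{u}} {N : X.Modules} (hN : PicF.IsInvertible N) :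
    FlatMod.IsFinLocFree N := K451.DetPic.isFinLocFree_of_rank (Ega2.QCohLocal.isFinLocFreeOfRank_one_iff.2 hN)

/-- `K₀(Coh P^r_k)` is generated by `O, …, O(r)`. -/
theorem gen_projSpace {O1 : (CohB1.ProjSpace r k).Modules} (e1 : O1 ≅ Twist.twistProjSpace r k 1) :
    AddSubgroup.closure (Set.range fun i : Fin (r + 1) => kc (CohB1.ProjSpace r k) (W O1 i)) = ⊤ := by
  have hN : IsNoetherian (CohB1.ProjSpace r k) := Sga5.ProjReg.isNoetherian_projSpace r k
  have hT : PicF.IsInvertible (Twist.twistProjSpace r k 1) := Ega3B.ProjFrame.isInvertible_twistProjSpace r k 1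
  have hlf := isFinLocFree_of_isInvertible hT
  have hlf1 : FlatMod.IsFinLocFree O1 := Sga67.LocBasis.isFinLocFree_of_iso e1.symm hlf
  have hcoh : ∀ M : (CohB1.ProjSpace r k).Modules, FlatMod.IsFinLocFree M → Coh.IsCoh M := fun M hM =>
    PerfA.CohSerre.isCoh_of_isFinLocFree hM
  have hs : Function.Surjective (D hcoh) :=
    (S3746.result (CohB1.ProjSpace r k) (Sga5.ProjReg.isRegularLocalRing_stalk r k)
      (Krr.H473.QProj.hasEnoughLocFree_of_isAmple (VarietyA.AmpleField.isAmple_twistProjSpace r k)) hcoh).2.comp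
        (toKR _).symm.surjective
  have hb := (K266.PBRing.bijective (atlas r k) hT (fun _ => Krr.H488.Serre.serreProp r k)).2
  rw [eq_top_iff]
  intro x _
  obtain ⟨y, rfl⟩ := hs x
  obtain ⟨a, rfl⟩ := hb y
  dsimp only
  rw [map_sum]
  refine sum_mem fun i _ => ?_
  obtain ⟨n, hn⟩ := exists_int k (a i)
  have h1 : pull (CohB1.ProjSpace.toSpec r k) (a i) * (ell hT : KR (CohB1.ProjSpace r k)) ^ (i : ℕ) =
      n • κ (W O1 i) := by
    rw [hn, map_zsmul, map_one, smul_mul_assoc, one_mul, ell_val, κ_W hlf1, κ_iso e1 hlf1]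
  rw [h1, map_zsmul, D_κ hcoh (isFinLocFree_W hlf1 _)]
  exact zsmul_mem (AddSubgroup.subset_closure (Set.mem_range_self i)) n

end field

section bundle

open Groth.Agent.Krr.H471.ChartTwist

/-- Pull-back of powers. -/
theorem nonempty_pullback_W {X Y : Scheme.{u}} (f : X ⟶ Y) (N : Y.Modules) (i : ℕ) :
    Nonempty ((Scheme.Modules.pullback f).obj (W N i) ≅ W ((Scheme.Modules.pullback f).obj N) i) := by
  induction i with
  | zero => exact ⟨Krr.H482.PullTens.pullUnitIso f⟩
  | succ i ih =>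
    obtain ⟨e⟩ := ih
    exact ⟨Krr.H482.PullTens.pullTensorIso f N (W N i) ≪≫ Ega2.Tens.mapTIso (Iso.refl _) e⟩

variable {P S : Scheme.{u}} [IsNoetherian P] [IsNoetherian S] {π : P ⟶ S} {r : ℕ} {E : S.Modules}
    {O1 : P.Modules} {q : (Scheme.Modules.pullback π).obj E ⟶ O1}

/-- The fibres of a projective bundle have `K₀` generated by `O, …, O(r)`. -/
theorem gen_fibre (hE : FlatMod.IsFinLocFreeOfRank (r + 1) E) (B : KRR.IsProjBundle π E O1 q)
    (hO : PicF.IsInvertible O1) (s : S) : Gen (fun i : Fin (r + 1) => W O1 i) (π.fiberι s) := by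
  have hlf := isFinLocFree_of_isInvertible hO
  obtain ⟨t⟩ := Krr.H483.PBTop.exists_triv_point hE s
  obtain ⟨j, hj, ⟨e1⟩⟩ := Krr.H484.PBCharts.exists_chart B (A := S.residueField s) (S.fromSpecResidueField s) t
  let e : π.fiber s ≅ CohB1.ProjSpace r (S.residueField s) :=
    (IsPullback.of_hasPullback π (S.fromSpecResidueField s)).isoIsPullback _ _ hj
  refine Gen.of_iso (fun i => PerfA.CohSerre.isCoh_of_isFinLocFree (isFinLocFree_W hlf i)) e (j' := j) ?_ ?_
  · exact IsPullback.isoIsPullback_hom_fst _ _ _ _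
  · unfold Gen
    rw [← gen_projSpace r (S.residueField s) e1]
    congr 2
    funext i
    obtain ⟨e2⟩ := nonempty_pullback_W j O1 i
    exact kc_iso e2 (FormalA.PullbackQC.isCoh_pullback j _
      (PerfA.CohSerre.isCoh_of_isFinLocFree (isFinLocFree_W hlf i)))

end bundle

section main

open K878.PBPush K878.CapEx K878.KSup Groth.Agent.Krr.H471.PBTwist Groth.Agent.Krr.H471.ChartTwist
open Groth.Agent.Sga67.K0Basic

variable {P S : Scheme.{u}} [IsNoetherian P] [IsNoetherian S] {π : P ⟶ S} {r : ℕ} {E : S.Modules}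
    {O1 : P.Modules} {q : (Scheme.Modules.pullback π).obj E ⟶ O1}

theorem opE_mul_opE {N : P.Modules} (hN : FlatMod.IsFinLocFree N) (hO : FlatMod.IsFinLocFree O1)
    (i : ((DCoh.tensorBi (X := P)).obj O1).obj N ≅ Coh.structureModule P) : opE N * opE O1 = 1 := by
  refine AddMonoidHom.ext fun ξ => ?_
  change capHom P (KRR.cl P N) (capHom P (KRR.cl P O1) ξ) = ξ
  rw [← capHom_tensor hN hO]
  have h : KRR.cl P ((tb N).obj O1) = KRR.cl P (Coh.structureModule P) :=
    Groth.Agent.Krr.H482.PullLambda.cl_iso (Groth.Agent.Ega2.Tens.swap N O1 ≪≫ i) (Sga67.LocBasis.isFinLocFree_tensorMod hN hO)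
  rw [h]
  exact capHom_unit ξ

/-- **The projective bundle formula for `K₀` of coherent modules.** -/
theorem bijective_succ (hE : FlatMod.IsFinLocFreeOfRank (r + 1) E) (B : KRR.IsProjBundle π E O1 q)
    [Flat π] :
    Function.Bijective (fun x : Fin (r + 1) → SGA6.Kcoh S =>
      ∑ i : Fin (r + 1), (opE O1 ^ (i : ℕ)) (pull π (x i))) := by
  have hO : PicF.IsInvertible O1 := K878.PBUnit.isInvertible_O1 B
  have hlf := isFinLocFree_of_isInvertible hO
  have hT := isTwist_of_isProjBundle hE B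
  have hp := Krr.H483.PBTop.isProper hE B
  obtain ⟨N, hN, ⟨i⟩⟩ := Grpsch.PicGrp.exists_inverse hO
  have hNlf := isFinLocFree_of_isInvertible hN
  let Φ : (Fin (r + 1) → SGA6.Kcoh S) →+ SGA6.Kcoh P :=
    ∑ i : Fin (r + 1), ((show SGA6.Kcoh P →+ SGA6.Kcoh P from opE O1 ^ (i : ℕ)).comp (pull π)).comp
      (Pi.evalAddMonoidHom _ i)
  have hΦ : ∀ x, Φ x = ∑ i : Fin (r + 1), (opE O1 ^ (i : ℕ)) (pull π (x i)) := fun x => by
    simp only [Φ, AddMonoidHom.finsetSum_apply, AddMonoidHom.comp_apply, Pi.evalAddMonoidHom_apply]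
    rfl
  have h1 : (fun x : Fin (r + 1) → SGA6.Kcoh S =>
      ∑ i : Fin (r + 1), (opE O1 ^ (i : ℕ)) (pull π (x i))) = Φ := funext fun x => (hΦ x).symm
  rw [h1]
  constructor
  · rw [injective_iff_map_eq_zero]
    intro a ha
    rw [hΦ] at ha
    exact eq_zero_of_sum (pull π) (push hT) (opE O1) (opE N) (opE_mul_opE hNlf hlf i) r
      (push_pull hE B hT) (fun k h1 h2 x => push_neg hT hNlf i k h1 h2 x) a ha
  · rw [← AddMonoidHom.range_eq_top]
    refine K266.FibreGen.eq_top (fun i : Fin (r + 1) => W O1 i) π (fun i => isFinLocFree_W hlf i) Φ.range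
      (fun i N hN => ?_) fun s => gen_fibre hE B hO s
    refine ⟨Pi.single i (kc S N), ?_⟩
    rw [hΦ, Finset.sum_eq_single i]
    · rw [Pi.single_eq_same]
      have h2 : pull π (kc S N) = KDet.clc P ((Scheme.Modules.pullback π).obj N) := pull_clc π hN
      rw [h2]
      exact opE_pow hlf (FormalA.PullbackQC.isCoh_pullback π N hN) i
    · intro k _ hk
      rw [Pi.single_eq_of_ne hk, map_zero, map_zero]
    · intro h
      exact absurd (Finset.mem_univ i) h

end main

end K38.PBCoh
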